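import Groth.Agent.Lib.Euler
import Groth.Agent.S0002
import Groth.Agent.QCoh.RpushClosed
import Groth.Agent.QCoh.RpushCoh
import Groth.Agent.QCoh.RpushStalk
import Groth.Agent.IntNum.Main

/-!
# The Euler characteristic through higher direct images

For a morphism `f : Y ⟶ X` of proper schemes over a field and `G` coherent on `Y`,
`χ(Y, G) = Σ (-1)^i χ(X, R^i f_* G)`, proved along the Godement tower of `G`.
-/

set_option linter.style.haveILetI false
set_option linter.unusedSectionVars false
set_option backward.isDefEq.respectTransparency false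
set_option backward.isDefEq.respectTransparency.types false
set_option maxHeartbeats 1000000

universe u

open CategoryTheory CategoryTheory.Limits AlgebraicGeometry TopologicalSpace Opposite
open Groth.Agent.PnCoh.Finite (mapLin deltaLin)
open Groth.Agent.QCoh (godQ God toGod godπ)

namespace Groth.Agent.LerayEuler

section Linear

variable {k : Type u} [Field k] {A C A' D : Type u} [AddCommGroup A] [Module k A] [AddCommGroup C]
  [Module k C] [AddCommGroup A'] [Module k A'] [AddCommGroup D] [Module k D]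

theorem finrank_split (b : A →ₗ[k] C) (hb : Function.Surjective b) (ι : A' →ₗ[k] A) (q : A →ₗ[k] D)
    (hιq : LinearMap.range ι = LinearMap.ker q) (hkq : LinearMap.ker b ≤ LinearMap.ker q)
    [Module.Finite k C] :
    Module.finrank k C =
      Module.finrank k (LinearMap.range (b.comp ι)) + Module.finrank k (LinearMap.range q) := by
  let e := b.quotKerEquivOfSurjective hb
  let q' : C →ₗ[k] D := (LinearMap.ker b).liftQ q hkq ∘ₗ e.symm.toLinearMap
  have hq' : ∀ a, q' (b a) = q a := fun a => by
    have h1 : e.symm (b a) = Submodule.Quotient.mk a := e.injective (by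
      rw [LinearEquiv.apply_symm_apply]
      exact (LinearMap.quotKerEquivOfSurjective_apply_mk b hb a).symm)
    show (LinearMap.ker b).liftQ q hkq (e.symm (b a)) = q a
    rw [h1]
    rfl
  have hr : LinearMap.range q' = LinearMap.range q := by
    ext d
    constructor
    · rintro ⟨c, rfl⟩
      obtain ⟨a, rfl⟩ := hb c
      exact ⟨a, (hq' a).symm⟩
    · rintro ⟨a, rfl⟩
      exact ⟨b a, hq' a⟩
  have hk : LinearMap.ker q' = LinearMap.range (b.comp ι) := by
    ext c
    constructor
    · intro hc
      obtain ⟨a, rfl⟩ := hb c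
      rw [LinearMap.mem_ker, hq'] at hc
      obtain ⟨a', rfl⟩ : a ∈ LinearMap.range ι := by rw [hιq]; exact hc
      exact ⟨a', rfl⟩
    · rintro ⟨a', rfl⟩
      rw [LinearMap.mem_ker]
      show q' (b (ι a')) = 0
      rw [hq']
      exact LinearMap.mem_ker.1 (hιq ▸ ⟨a', rfl⟩ : ι a' ∈ LinearMap.ker q)
  have h := q'.finrank_range_add_finrank_ker
  rw [hr, hk] at h
  omega

/-- Equal kernels give isomorphic images. -/
theorem finrank_range_eq_of_ker_eq (u : A →ₗ[k] C) (v : A →ₗ[k] D)
    (h : LinearMap.ker u = LinearMap.ker v) :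
    Module.finrank k (LinearMap.range u) = Module.finrank k (LinearMap.range v) :=
  (u.quotKerEquivRange.symm.trans ((Submodule.quotEquivOfEq _ _ h).trans v.quotKerEquivRange)).finrank_eq

/-- The middle of an exact sequence of finite spaces is finite. -/
theorem finite_of_exact (u : A →ₗ[k] C) (v : C →ₗ[k] D) (h : LinearMap.range u = LinearMap.ker v)
    [Module.Finite k A] [Module.Finite k D] : Module.Finite k C := by
  haveI : Module.Finite k (LinearMap.ker v) := h ▸ inferInstance
  haveI : Module.Finite k (C ⧸ LinearMap.ker v) := Module.Finite.equiv v.quotKerEquivRange.symm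
  exact Module.Finite.of_submodule_quotient (LinearMap.ker v)

end Linear

variable (k : Type u) [Field k] {X Y : Scheme.{u}} [X.Over (Spec (CommRingCat.of k))]
  [Y.Over (Spec (CommRingCat.of k))] [IsProper (X ↘ Spec (CommRingCat.of k))]
  [IsProper (Y ↘ Spec (CommRingCat.of k))] (f : Y ⟶ X)
  (hf : f ≫ (X ↘ Spec (CommRingCat.of k)) = Y ↘ Spec (CommRingCat.of k))

/-- A bound for the telescoping over a short exact sequence. -/
theorem euler_X₃ {S : ShortComplex X.Modules} (hS : S.ShortExact) (d : ℕ)
    (h1 : ∀ p, Module.Finite k (Coh.HH X S.X₁ (p + 1))) (h2 : ∀ p, Module.Finite k (Coh.HH X S.X₂ (p + 1)))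
    (h3 : ∀ p, Module.Finite k (Coh.HH X S.X₃ p))
    (v1 : ∀ p, d ≤ p → Subsingleton (Coh.HH X S.X₁ (p + 1)))
    (v2 : ∀ p, d ≤ p → Subsingleton (Coh.HH X S.X₂ (p + 1)))
    (v3 : ∀ p, d ≤ p → Subsingleton (Coh.HH X S.X₃ p)) :
    Curv2.euler k X S.X₃ = (Module.finrank k (LinearMap.range (mapLin k S.g 0)) : ℤ) +
      ∑ i ∈ Finset.range d, (-1 : ℤ) ^ (i + 1) *
        ((Module.finrank k (Coh.HH X S.X₂ (i + 1)) : ℤ) - Module.finrank k (Coh.HH X S.X₁ (i + 1))) := by
  haveI := h1
  haveI := h2
  haveI := h3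
  rw [Euler.euler_eq_sum k S.X₃ (d + 1) fun i hi => v3 i (by omega), Finset.sum_range_succ', pow_zero,
    one_mul]
  let δ : ℕ → ℤ := fun i => Module.finrank k (LinearMap.range (deltaLin k hS i))
  have e0 : (Module.finrank k (Coh.HH X S.X₃ 0) : ℤ) =
      Module.finrank k (LinearMap.range (mapLin k S.g 0)) + δ 0 := by
    have e3 := (deltaLin k hS 0).finrank_range_add_finrank_ker
    rw [← Euler.range_mapLin_g k hS 0] at e3
    simp only [δ]
    omega
  have key : ∀ i, (Module.finrank k (Coh.HH X S.X₃ (i + 1)) : ℤ) =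
      (Module.finrank k (Coh.HH X S.X₂ (i + 1)) : ℤ) - Module.finrank k (Coh.HH X S.X₁ (i + 1)) +
        δ i + δ (i + 1) := by
    intro i
    have e1 := (mapLin k S.f (i + 1)).finrank_range_add_finrank_ker
    have e2 := (mapLin k S.g (i + 1)).finrank_range_add_finrank_ker
    have e3 := (deltaLin k hS (i + 1)).finrank_range_add_finrank_ker
    rw [Euler.range_mapLin_f k hS (i + 1), ← Euler.range_deltaLin k hS i] at e1
    rw [Euler.range_mapLin_g k hS (i + 1)] at e2
    simp only [δ]
    omega
  have hlast : δ d = 0 := by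
    simp only [δ]
    haveI := v1 d le_rfl
    rw [Module.finrank_zero_of_subsingleton]
    rfl
  have tel : ∀ n, ∑ i ∈ Finset.range n, (-1 : ℤ) ^ (i + 1) * (δ i + δ (i + 1)) =
      -δ 0 + (-1 : ℤ) ^ n * δ n := by
    intro n
    induction n with
    | zero => simp
    | succ m ih => rw [Finset.sum_range_succ, ih]; ring
  have hsum := tel d
  rw [hlast, mul_zero, add_zero] at hsum
  rw [e0, Finset.sum_congr rfl fun i _ => show
    (-1 : ℤ) ^ (i + 1) * (Module.finrank k (Coh.HH X S.X₃ (i + 1)) : ℤ) =
      (-1 : ℤ) ^ (i + 1) * ((Module.finrank k (Coh.HH X S.X₂ (i + 1)) : ℤ) -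
        Module.finrank k (Coh.HH X S.X₁ (i + 1))) + (-1 : ℤ) ^ (i + 1) * (δ i + δ (i + 1)) by
      rw [key i]; ring, Finset.sum_add_distrib, hsum]
  ring

/-- The pushed Godement cokernels. -/
noncomputable abbrev F (G : Y.Modules) (n : ℕ) : X.Modules :=
  (Scheme.Modules.pushforward f).obj (godQ G n)

/-- The pushed Godement maps. -/
noncomputable abbrev α (G : Y.Modules) (n : ℕ) :
    (Scheme.Modules.pushforward f).obj (God (godQ G n)) ⟶ F f G (n + 1) :=
  (Scheme.Modules.pushforward f).map (godπ G n)

theorem subsingleton_HH_flasque {M : X.Modules} (hM : QCoh.IsFlasqueMod M) (p : ℕ) :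
    Subsingleton (Coh.HH X M (p + 1)) :=
  QCoh.Ab.subsingleton_H_of_HU_top (X := X.toPresheafedSpace.carrier) (QCoh.abSheaf M) (p + 1)
    (have := hM; SiteBase.subsingleton_HU_of_isFlasque (X := X.toPresheafedSpace.carrier) (QCoh.abSheaf M) ⊤ p)

theorem subsingleton_HH_pushGod (N : Y.Modules) (p : ℕ) :
    Subsingleton (Coh.HH X ((Scheme.Modules.pushforward f).obj (God N)) (p + 1)) :=
  subsingleton_HH_flasque (QCoh.isFlasque_pushAb f (QCoh.isFlasque_God N)) p

/-- The first short exact sequence at level `n`. -/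
noncomputable abbrev sesA (G : Y.Modules) (n : ℕ) : ShortComplex X.Modules :=
  ShortComplex.mk (X₁ := F f G n) (X₂ := (Scheme.Modules.pushforward f).obj (God (godQ G n)))
    ((Scheme.Modules.pushforward f).map (toGod (godQ G n))) (Abelian.factorThruImage (α f G n)) (by
      rw [← cancel_mono (Abelian.image.ι (α f G n)), Category.assoc, Abelian.image.fac, zero_comp]
      show _ ≫ (Scheme.Modules.pushforward f).map (godπ G n) = _
      rw [← Functor.map_comp, (QCoh.godSES G n).zero, Functor.map_zero])

theorem sesA_shortExact (G : Y.Modules) (n : ℕ) : (sesA f G n).ShortExact := by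
  haveI := (Scheme.Modules.pullbackPushforwardAdjunction f).isRightAdjoint
  haveI : Mono (sesA f G n).f :=
    haveI : Mono (toGod (godQ G n)) := (QCoh.godSES_shortExact G n).mono_f
    inferInstanceAs (Mono ((Scheme.Modules.pushforward f).map (toGod (godQ G n))))
  haveI : Epi (sesA f G n).g := inferInstanceAs (Epi (Abelian.factorThruImage (α f G n)))
  let S' := ShortComplex.mk ((Scheme.Modules.pushforward f).map (toGod (godQ G n))) (α f G n) (by
    show _ ≫ (Scheme.Modules.pushforward f).map (godπ G n) = _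
    rw [← Functor.map_comp, (QCoh.godSES G n).zero, Functor.map_zero])
  have h' : S'.Exact := ShortComplex.exact_of_f_is_kernel _
    (KernelFork.mapIsLimit _ (QCoh.godSES_shortExact G n).fIsKernel (Scheme.Modules.pushforward f))
  let φ : sesA f G n ⟶ S' :=
    { τ₁ := 𝟙 _
      τ₂ := 𝟙 _
      τ₃ := Abelian.image.ι (α f G n)
      comm₁₂ := by simp [S']
      comm₂₃ := by
        show 𝟙 _ ≫ α f G n = Abelian.factorThruImage (α f G n) ≫ Abelian.image.ι (α f G n)
        rw [Category.id_comp, Abelian.image.fac] }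
  haveI : Epi φ.τ₁ := inferInstanceAs (Epi (𝟙 _))
  haveI : IsIso φ.τ₂ := inferInstanceAs (IsIso (𝟙 _))
  haveI : Mono φ.τ₃ := inferInstanceAs (Mono (Abelian.image.ι _))
  exact { exact := (ShortComplex.exact_iff_of_epi_of_isIso_of_mono φ).2 h' }

/-- The second short exact sequence at level `n`. -/
noncomputable abbrev sesB (G : Y.Modules) (n : ℕ) : ShortComplex X.Modules :=
  ShortComplex.mk (Abelian.image.ι (α f G n)) (cokernel.π (α f G n)) (kernel.condition _)

theorem sesB_shortExact (G : Y.Modules) (n : ℕ) : (sesB f G n).ShortExact :=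
  { exact := ShortComplex.exact_of_f_is_kernel _ (kernelIsKernel _) }

theorem mapLin_comp {M N P : X.Modules} (u : M ⟶ N) (v : N ⟶ P) (w : M ⟶ P) (h : u ≫ v = w) (p : ℕ)
    (x : Coh.HH X M p) : mapLin k v p (mapLin k u p x) = mapLin k w p x :=
  PnCoh.Finite.map_map (Y := X.toPresheafedSpace.carrier)
    (((QCoh.toAbFunctor X).map_comp u v).symm.trans (congrArg _ h)) p x

include hf in
theorem toGlobal_eq (a : k) : Coh.toGlobal (Y ↘ Spec (CommRingCat.of k)) a =
    f.appTop.hom (Coh.toGlobal (X ↘ Spec (CommRingCat.of k)) a) := by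
  rw [← hf]
  rfl

/-- Zeroth cohomology on `X` of a pushed module, read as sections on `Y`. -/
noncomputable def sec (N : Y.Modules) :
    Coh.HH X ((Scheme.Modules.pushforward f).obj N) 0 → Γ(N, ⊤) :=
  Sheaf.H.equiv₀ (Coh.toAb ((Scheme.Modules.pushforward f).obj N)) isTerminalTop

theorem bijective_sec (N : Y.Modules) : Function.Bijective (sec f N) :=
  (Sheaf.H.equiv₀ (Coh.toAb ((Scheme.Modules.pushforward f).obj N)) isTerminalTop).bijective

theorem sec_map {N N' : Y.Modules} (φ : N ⟶ N')
    (x : Coh.HH X ((Scheme.Modules.pushforward f).obj N) 0) :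
    sec f N' (mapLin k ((Scheme.Modules.pushforward f).map φ) 0 x) = φ.app ⊤ (sec f N x) :=
  (Sheaf.H.equiv₀_naturality isTerminalTop
    ((QCoh.toAbFunctor X).map ((Scheme.Modules.pushforward f).map φ)) x).symm

include hf in
/-- The classes on `Y` of the zeroth cohomology on `X` of the pushed Godement cokernels. -/
theorem exists_cls (G : Y.Modules) (n : ℕ) :
    ∃ b : Coh.HH X (F f G n) 0 →ₗ[k] Coh.HH Y G n, Function.Surjective b ∧
      ∀ x, b x = 0 ↔ sec f (godQ G n) x ∈ QCoh.bd G n ⊤ := by
  let ρY := Coh.toGlobal (Y ↘ Spec (CommRingCat.of k))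
  let ρX := Coh.toGlobal (X ↘ Spec (CommRingCat.of k))
  letI := QCoh.secModule ρY (godQ G n) ⊤
  letI := QCoh.secModule ρX (F f G n) ⊤
  obtain ⟨a, ha, hker⟩ := QCoh.exists_classMap ρY G n
  have hs : ∀ (c : k) (x : Coh.HH X (F f G n) 0),
      sec f (godQ G n) (c • x) = c • sec f (godQ G n) x := by
    intro c x
    refine ((QCoh.secH ρX (F f G n)).symm.map_smul c x).trans ?_
    show (show Γ(Y, ⊤) from
        (f.app ⊤).hom ((X.presheaf.map (homOfLE (le_top : (⊤ : X.Opens) ≤ ⊤)).op).hom (ρX c))) •
        sec f (godQ G n) x =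
      (Y.presheaf.map (homOfLE (le_top : (⊤ : Y.Opens) ≤ ⊤)).op).hom (ρY c) • sec f (godQ G n) x
    congr 1
    simp only [homOfLE_refl, op_id, CategoryTheory.Functor.map_id]
    exact (toGlobal_eq k f hf c).symm
  refine ⟨{ toFun := fun x => a (sec f (godQ G n) x)
            map_add' := fun x y => ?_
            map_smul' := fun c x => ?_ }, ha.comp (bijective_sec f _).2, fun x => hker _⟩
  · refine Eq.trans (congrArg a ?_) (map_add a _ _)
    exact map_add (Sheaf.H.equiv₀ (Coh.toAb (F f G n)) isTerminalTop) x y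
  · exact (congrArg a (hs c x)).trans (a.map_smul c _)

theorem mem_bd_succ (G : Y.Modules) (n : ℕ) (x : Coh.HH X (F f G (n + 1)) 0) :
    sec f (godQ G (n + 1)) x ∈ QCoh.bd G (n + 1) ⊤ ↔
      x ∈ LinearMap.range (mapLin k (α f G n) 0) := by
  constructor
  · rintro ⟨z, hz⟩
    obtain ⟨w, rfl⟩ := (bijective_sec f (God (godQ G n))).2 z
    exact ⟨w, (bijective_sec f _).1 ((sec_map k f (godπ G n) w).trans hz)⟩
  · rintro ⟨w, rfl⟩
    exact ⟨sec f (God (godQ G n)) w, (sec_map k f (godπ G n) w).symm⟩

variable [HasInjectiveResolutions Y.Modules]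

include k hf in
theorem isProper_f : IsProper f :=
  haveI : IsProper (f ≫ (X ↘ Spec (CommRingCat.of k))) := by rw [hf]; infer_instance
  IsProper.of_comp f (X ↘ Spec (CommRingCat.of k))

include k hf in
theorem isCoh_R (G : Y.Modules) (hG : Coh.IsCoh G) (i : ℕ) : Coh.IsCoh ((Coh.Rpush f i).obj G) := by
  haveI := isProper_f k f hf
  haveI := CurveCohLib.isNoetherian_of_proper (k := k) (X := X)
  exact QCoh.isCoh_Rpush_of_finiteness (f := f) hG i fun A _ _ Z _ _ N hN n => S0002.result A Z N hN n

include k hf in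
theorem exists_R_bound (G : Y.Modules) (hG : Coh.IsCoh G) :
    ∃ r : ℕ, ∀ i, r ≤ i → IsZero ((Coh.Rpush f (i + 1)).obj G) ∧
      IsZero (QCoh.rpushModel f G i) := by
  haveI := isProper_f k f hf
  haveI : CompactSpace X := QuasiCompact.compactSpace_of_compactSpace (X ↘ Spec (CommRingCat.of k))
  obtain ⟨r, hr⟩ := QCoh.exists_RpushAb_bound f
  refine ⟨r, fun i hi => ?_⟩
  obtain ⟨e⟩ := QCoh.nonempty_RpushAb_iso f G i
  obtain ⟨e'⟩ := QCoh.nonempty_Rpush_iso f G i
  have h0 : IsZero (QCoh.rpushModel f G i) := by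
    have h := (hr G hG.1 (i + 1) (by omega)).of_iso e.symm
    rw [IsZero.iff_id_eq_zero]
    refine Scheme.Modules.hom_ext _ _ fun U => ?_
    ext x
    have h1 := congr(($((IsZero.iff_id_eq_zero _).1 h)).hom.app (op U) x)
    exact h1
  exact ⟨h0.of_iso e', h0⟩

include hf in
/-- The formula. -/
theorem euler_eq (G : Y.Modules) (hG : Coh.IsCoh G) :
    Curv2.euler k Y G = ∑ᶠ i : ℕ, (-1 : ℤ) ^ i * Curv2.euler k X ((Coh.Rpush f i).obj G) := by
  classical
  haveI : HasInjectiveResolutions X.Modules := KFlatLib.hasInjectiveResolutions_modules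
  obtain ⟨dX, hdX⟩ := Euler.exists_bound (X := X) k
  obtain ⟨dY, hdY⟩ := Euler.exists_bound (X := Y) k
  obtain ⟨r, hr⟩ := exists_R_bound k f hf G hG
  haveI hYfin := fun n => S0002.result k Y G hG n
  choose eR heR using fun q => (⟨(QCoh.nonempty_Rpush_iso f G q).some, trivial⟩ :
    ∃ _e : (Coh.Rpush f (q + 1)).obj G ≅ QCoh.rpushModel f G q, True)
  have hRcoh : ∀ q, Coh.IsCoh (QCoh.rpushModel f G q) := fun q => by
    have h := isCoh_R k f hf G hG (q + 1)
    exact QCoh.isCoh_of_iso_finite (eR q).symm h.1 fun V hV => QCoh.finite_sections h hV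
  have hF0 : Coh.IsCoh (F f G 0) := by
    have h := isCoh_R k f hf G hG 0
    haveI := SpObjSS.enoughInjectives_of_hasInjectiveResolutions (C := Y.Modules)
    haveI := QCoh.preservesFiniteLimits_push f
    exact QCoh.isCoh_of_iso_finite ((Scheme.Modules.pushforward f).rightDerivedZeroIsoSelf.app G).symm h.1
      fun V hV => QCoh.finite_sections h hV
  -- finiteness and vanishing of the positive cohomology of the pushed Godement cokernels
  have hP : ∀ n, (∀ p, Module.Finite k (Coh.HH X (F f G n) (p + 1))) ∧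
      ∀ p, dX ≤ p → Subsingleton (Coh.HH X (F f G n) (p + 1)) := by
    intro n
    induction n with
    | zero => exact ⟨fun p => S0002.result k X _ hF0 (p + 1), fun p hp => hdX _ hF0.1 _ (by omega)⟩
    | succ n ih =>
      have hbij : ∀ p, Function.Bijective (deltaLin k (sesA_shortExact f G n) (p + 1)) := fun p =>
        QCoh.Ab.connecting_bijective (X := X.toPresheafedSpace.carrier)
          (QCoh.toAb_shortExact (sesA_shortExact f G n)) (p + 1)
          (subsingleton_HH_pushGod f _ p) (subsingleton_HH_pushGod f _ (p + 1))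
      refine ⟨fun p => ?_, fun p hp => ?_⟩
      · haveI : Module.Finite k (Coh.HH X (sesB f G n).X₁ (p + 1)) :=
          haveI := ih.1 (p + 1)
          Module.Finite.of_injective (deltaLin k (sesA_shortExact f G n) (p + 1)) (hbij p).1
        haveI : Module.Finite k (Coh.HH X (sesB f G n).X₃ (p + 1)) :=
          S0002.result k X _ (hRcoh n) (p + 1)
        exact finite_of_exact (mapLin k (sesB f G n).f (p + 1)) (mapLin k (sesB f G n).g (p + 1))
          (Euler.range_mapLin_f k (sesB_shortExact f G n) (p + 1))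
      · exact QCoh.subsingleton_HH_X₂ (sesB_shortExact f G n) (p + 1)
          (haveI := ih.2 (p + 1) (by omega); (hbij p).1.subsingleton)
          (hdX _ (hRcoh n).1 _ (by omega))
  let c : ℕ → ℤ := fun n => Module.finrank k (Coh.HH Y G n)
  let E : ℕ → ℤ := fun n => c n + ∑ i ∈ Finset.range dX,
    (-1 : ℤ) ^ (i + 1) * (Module.finrank k (Coh.HH X (F f G n) (i + 1)) : ℤ)
  -- the base
  have hE0 : Curv2.euler k X ((Coh.Rpush f 0).obj G) = E 0 := by
    haveI := SpObjSS.enoughInjectives_of_hasInjectiveResolutions (C := Y.Modules)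
    haveI := QCoh.preservesFiniteLimits_push f
    rw [Euler.euler_congr k ((Scheme.Modules.pushforward f).rightDerivedZeroIsoSelf.app G)]
    show Curv2.euler k X (F f G 0) = _
    rw [Euler.euler_eq_sum k (F f G 0) (dX + 1) fun i hi => hdX _ hF0.1 i (by omega),
      Finset.sum_range_succ', pow_zero, one_mul, add_comm]
    simp only [E, c]
    congr 2
    obtain ⟨b, hb, hker⟩ := exists_cls k f hf G 0
    refine LinearEquiv.finrank_eq (LinearEquiv.ofBijective b ⟨?_, hb⟩)
    rw [injective_iff_map_eq_zero]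
    intro x hx
    have h : sec f (godQ G 0) x = 0 := (Submodule.mem_bot _).1 ((hker x).1 hx)
    exact (bijective_sec f _).1 (h.trans (map_zero (Sheaf.H.equiv₀ (Coh.toAb (F f G 0)) isTerminalTop)).symm)
  -- the step
  have hstep : ∀ n, Curv2.euler k X ((Coh.Rpush f (n + 1)).obj G) = E (n + 1) + E n - c n := by
    intro n
    have hA := sesA_shortExact f G n
    have hB := sesB_shortExact f G n
    have hbij : ∀ p, Function.Bijective (deltaLin k hA (p + 1)) := fun p =>
      QCoh.Ab.connecting_bijective (X := X.toPresheafedSpace.carrier)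
        (QCoh.toAb_shortExact hA) (p + 1)
        (subsingleton_HH_pushGod f _ p) (subsingleton_HH_pushGod f _ (p + 1))
    have hfinB : ∀ p, Module.Finite k (Coh.HH X (sesB f G n).X₁ (p + 1)) := fun p =>
      haveI := (hP n).1 (p + 1)
      Module.Finite.of_injective (deltaLin k hA (p + 1)) (hbij p).1
    have heq : ∀ p, Module.finrank k (Coh.HH X (sesB f G n).X₁ (p + 1)) =
        Module.finrank k (Coh.HH X (F f G n) (p + 1 + 1)) := fun p =>
      LinearEquiv.finrank_eq (LinearEquiv.ofBijective (deltaLin k hA (p + 1)) (hbij p))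
    rw [Euler.euler_congr k (eR n)]
    show Curv2.euler k X (sesB f G n).X₃ = _
    rw [euler_X₃ k hB dX hfinB (hP (n + 1)).1 (fun p => S0002.result k X _ (hRcoh n) p)
      (fun p hp => haveI := (hP n).2 (p + 1) (by omega); (hbij p).1.subsingleton)
      (hP (n + 1)).2 (fun p hp => hdX _ (hRcoh n).1 p hp)]
    -- degree zero
    obtain ⟨b, hb, hker⟩ := exists_cls k f hf G (n + 1)
    have hkb : ∀ x, b x = 0 ↔ x ∈ LinearMap.range (mapLin k (α f G n) 0) := fun x =>
      (hker x).trans (mem_bd_succ k f G n x)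
    have hfac : ∀ w, mapLin k (sesB f G n).f 0 (mapLin k (sesA f G n).g 0 w) = mapLin k (α f G n) 0 w :=
      mapLin_comp k _ _ _ (Abelian.image.fac _) 0
    have h0 : (Module.finrank k (Coh.HH Y G (n + 1)) : ℤ) =
        Module.finrank k (Coh.HH X (F f G n) 1) +
          Module.finrank k (LinearMap.range (mapLin k (sesB f G n).g 0)) := by
      have hs := finrank_split b hb (mapLin k (sesB f G n).f 0) (mapLin k (sesB f G n).g 0)
        (Euler.range_mapLin_f k hB 0) (fun x hx => by
          obtain ⟨w, rfl⟩ := (hkb x).1 hx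
          rw [← hfac w, ← Euler.range_mapLin_f k hB 0]
          exact ⟨_, rfl⟩)
      have hk : LinearMap.ker (b.comp (mapLin k (sesB f G n).f 0)) = LinearMap.ker (deltaLin k hA 0) := by
        rw [← Euler.range_mapLin_g k hA 0]
        ext x
        rw [LinearMap.mem_ker, LinearMap.comp_apply, hkb]
        constructor
        · rintro ⟨w, hw⟩
          refine ⟨w, LinearMap.ker_eq_bot.1 (Euler.ker_mapLin_f_zero k hB) ?_⟩
          rw [hfac, hw]
        · rintro ⟨w, rfl⟩
          exact ⟨w, (hfac w).symm⟩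
      have hsurj : Function.Surjective (deltaLin k hA 0) :=
        QCoh.Ab.connecting_surjective (X := X.toPresheafedSpace.carrier)
          (QCoh.toAb_shortExact hA) 0 (subsingleton_HH_pushGod f _ 0)
      have hδ : Module.finrank k (LinearMap.range (deltaLin k hA 0)) =
          Module.finrank k (Coh.HH X (F f G n) 1) := by
        rw [LinearMap.range_eq_top.2 hsurj]
        exact finrank_top k _
      rw [hs, finrank_range_eq_of_ker_eq _ _ hk, hδ]
      push_cast
      ring
    simp only [heq]
    simp only [E, c]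
    rw [h0]
    have htail : ∑ i ∈ Finset.range dX, (-1 : ℤ) ^ (i + 1) *
        (Module.finrank k (Coh.HH X (F f G n) (i + 1)) : ℤ) =
        -(Module.finrank k (Coh.HH X (F f G n) 1) : ℤ) -
          ∑ i ∈ Finset.range dX, (-1 : ℤ) ^ (i + 1) *
            (Module.finrank k (Coh.HH X (F f G n) (i + 1 + 1)) : ℤ) := by
      have h := Finset.sum_range_succ' (fun i => (-1 : ℤ) ^ (i + 1) *
        (Module.finrank k (Coh.HH X (F f G n) (i + 1)) : ℤ)) dX
      haveI := (hP n).2 dX le_rfl
      rw [Finset.sum_range_succ, Module.finrank_zero_of_subsingleton] at h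
      simp only [Nat.cast_zero, mul_zero, add_zero, zero_add, pow_one] at h
      rw [h]
      simp only [pow_succ, mul_neg, mul_one, neg_mul, Finset.sum_neg_distrib, one_mul, neg_neg]
      ring
    simp only [mul_sub, Finset.sum_sub_distrib]
    rw [htail]
    ring
  -- vanishing for large `n`
  have hvan : ∀ m p, dX ≤ p + m → Subsingleton (Coh.HH X (F f G (r + m)) (p + 1)) := by
    intro m
    induction m with
    | zero => exact fun p hp => (hP r).2 p hp
    | succ m ih =>
      intro p hp
      refine QCoh.subsingleton_HH_X₂ (sesB_shortExact f G (r + m)) (p + 1) ?_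
        (Euler.subsingleton_HH_of_isZero (hr (r + m) (by omega)).2 _)
      have hi := ih (p + 1) (by omega)
      exact @Function.Injective.subsingleton _ _ _ (QCoh.Ab.connecting_bijective (X := X.toPresheafedSpace.carrier)
        (QCoh.toAb_shortExact (sesA_shortExact f G (r + m))) (p + 1)
        (subsingleton_HH_pushGod f _ p) (subsingleton_HH_pushGod f _ (p + 1))).1 hi
  let N := r + dX + dY + 1
  have hEN : E N = 0 := by
    simp only [E, c]
    haveI := hdY G hG.1 N (by omega)
    rw [Module.finrank_zero_of_subsingleton, Nat.cast_zero, zero_add]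
    refine Finset.sum_eq_zero fun i _ => ?_
    haveI : Subsingleton (Coh.HH X (F f G N) (i + 1)) := by
      have := hvan (dX + dY + 1) i (by omega)
      rwa [show r + (dX + dY + 1) = N by omega] at this
    rw [Module.finrank_zero_of_subsingleton, Nat.cast_zero, mul_zero]
  have htel : ∀ M, ∑ i ∈ Finset.range (M + 1), (-1 : ℤ) ^ i * Curv2.euler k X ((Coh.Rpush f i).obj G) =
      (-1 : ℤ) ^ M * E M + ∑ i ∈ Finset.range M, (-1 : ℤ) ^ i * c i := by
    intro M
    induction M with
    | zero => simp [hE0]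
    | succ M ih =>
      rw [Finset.sum_range_succ, ih, hstep, Finset.sum_range_succ (fun i => (-1 : ℤ) ^ i * c i)]
      ring
  rw [Euler.euler_eq_sum k G N fun i hi => hdY G hG.1 i (by omega),
    finsum_eq_sum_of_support_subset _ (s := Finset.range (N + 1)) fun i hi => ?_, htel, hEN, mul_zero,
    zero_add]
  simp only [Function.mem_support] at hi
  by_contra hni
  rw [Finset.coe_range, Set.mem_Iio, not_lt] at hni
  obtain ⟨j, rfl⟩ : ∃ j, i = j + 1 := ⟨i - 1, by omega⟩
  refine hi (mul_eq_zero_of_right _ ?_)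
  unfold Curv2.euler
  refine finsum_eq_zero_of_forall_eq_zero fun p => ?_
  haveI := Euler.subsingleton_HH_of_isZero (hr j (by omega)).1 p
  rw [Module.finrank_zero_of_subsingleton, Nat.cast_zero, mul_zero]

end Groth.Agent.LerayEuler
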