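import Groth.Agent.LerayEuler.Main
import Groth.Agent.IntNum.Main
import Groth.Agent.IntNum.PushRank
import Groth.Agent.AVDegPoly.Pullback
import Groth.Agent.KFlatLib.Scheme.ProjLocFree
import Groth.Agent.VarDim.Fibre
import Groth.Agent.H23.P1Graph
import Groth.Agent.ParShLib.ResStalk
import Groth.Prelude.Def_DerSch

/-!
# Intersection numbers of pullbacks
-/

set_option linter.style.haveILetI false
set_option linter.unusedSectionVars false
set_option backward.isDefEq.respectTransparency false
set_option backward.isDefEq.respectTransparency.types false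
set_option maxHeartbeats 1000000

universe u

open CategoryTheory CategoryTheory.Limits AlgebraicGeometry TopologicalSpace Opposite
open Groth.Agent Groth.Agent.IntNum Groth.Agent.H23
open scoped Groth.Agent.H23.PicMul
open Snapper (χs)

noncomputable section

namespace Groth.Agent.LerayEuler

variable (k : Type u) [Field k] {X Y : Scheme.{u}}

theorem cl_tensorPows_pullback (f : Y ⟶ X) (M : Y.Modules) {r : ℕ} (L : Fin r → X.Modules) (n : Fin r → ℕ) :
    PicF.cl (Curv2.tensorPows M r (fun i => (Scheme.Modules.pullback f).obj (L i)) n) =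
      PicF.cl (CohB1.tensorMod
        ((Scheme.Modules.pullback f).obj (Curv2.tensorPows (Coh.structureModule X) r L n)) M) := by
  rw [AVDegPoly.cl_tensorPows, PicMul.cl_tensor, _root_.mul_comm (PicF.cl M)]
  congr 1
  show _ = PicF.pullCl f (PicF.cl (Curv2.tensorPows (Coh.structureModule X) r L n))
  rw [AVDegPoly.cl_tensorPows, show PicF.cl (Coh.structureModule X) = 1 from rfl, _root_.one_mul,
    show PicF.pullCl f (∏ i, PicF.cl (L i) ^ n i) = ∏ i, PicF.pullCl f (PicF.cl (L i) ^ n i) from map_prod (PicMul.pullHom f) _ _]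
  exact Finset.prod_congr rfl fun i _ => (PicMul.pullCl_pow f (PicF.cl (L i)) (n i)).symm

theorem cl_tensorPows_tensor (N : X.Modules) {r : ℕ} (L : Fin r → X.Modules) (n : Fin r → ℕ) :
    PicF.cl (Curv2.tensorPows N r L n) =
      PicF.cl (CohB1.tensorMod (Curv2.tensorPows (Coh.structureModule X) r L n) N) := by
  rw [AVDegPoly.cl_tensorPows, PicMul.cl_tensor, AVDegPoly.cl_tensorPows,
    show PicF.cl (Coh.structureModule X) = 1 from rfl, _root_.one_mul, _root_.mul_comm]

theorem isInvertible_tensorPows : ∀ {r : ℕ} (L : Fin r → X.Modules), (∀ i, PicF.IsInvertible (L i)) →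
    ∀ n : Fin r → ℕ, PicF.IsInvertible (Curv2.tensorPows (Coh.structureModule X) r L n)
  | 0, _, _, _ => InvX.isInvertible_structureModule
  | r + 1, L, hL, n => InvX.isInvertible_tensorMod
      (isInvertible_tensorPows (fun i => L i.castSucc) (fun i => hL _) _) (InvX.isInvertible_tensorPow (hL _) _)

variable [X.Over (Spec (CommRingCat.of k))] [Y.Over (Spec (CommRingCat.of k))]
  [IsProper (X ↘ Spec (CommRingCat.of k))] [IsProper (Y ↘ Spec (CommRingCat.of k))] (f : Y ⟶ X)
  (hf : f ≫ (X ↘ Spec (CommRingCat.of k)) = Y ↘ Spec (CommRingCat.of k))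
  [HasInjectiveResolutions Y.Modules]

include hf in
/-- Euler characteristics of twists by pullbacks, through the higher direct images. -/
theorem χs_pullback {M : Y.Modules} (hM : Coh.IsCoh M) :
    ∃ N : ℕ, 0 < N ∧ ∀ (r : ℕ) (L : Fin r → X.Modules), (∀ i, PicF.IsInvertible (L i)) → ∀ n : Fin r → ℕ,
      χs k (fun i => (Scheme.Modules.pullback f).obj (L i)) M n =
        ∑ i ∈ Finset.range N, (-1 : ℚ) ^ i * χs k L ((Coh.Rpush f i).obj M) n := by
  haveI := CurveCohLib.isNoetherian_of_proper (k := k) (X := X)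
  haveI := CurveCohLib.isNoetherian_of_proper (k := k) (X := Y)
  obtain ⟨r₀, hr₀⟩ := exists_R_bound k f hf M hM
  refine ⟨r₀ + 1, by omega, fun r L hL n => ?_⟩
  let E := Curv2.tensorPows (Coh.structureModule X) r L n
  have hE : PicF.IsInvertible E := isInvertible_tensorPows L hL n
  have hEf : FlatMod.IsFinLocFree E := fun x =>
    ⟨(InvEnd.isFinLocFreeOfRank_one hE x).choose, 1, (InvEnd.isFinLocFreeOfRank_one hE x).choose_spec⟩
  let M' := CohB1.tensorMod ((Scheme.Modules.pullback f).obj E) M
  obtain ⟨eY⟩ := PicMul.cl_eq_iff.1 (cl_tensorPows_pullback f M L n)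
  have hM' : Coh.IsCoh M' := by
    have h := (Snapper.isCoh_tensorPows (fun i => (Scheme.Modules.pullback f).obj (L i))
      (fun i => PicClLib.isInvertible_pullback f (hL i)) n hM)
    exact QCoh.isCoh_of_iso_finite eY.symm h.1 fun V hV => QCoh.finite_sections h hV
  have hterm : ∀ i, Curv2.euler k X ((Coh.Rpush f i).obj M') =
      Curv2.euler k X (Curv2.tensorPows ((Coh.Rpush f i).obj M) r L n) := fun i => by
    obtain ⟨e⟩ := KFlatLib.nonempty_rpush_tensor_finLocFree f M E hEf i
    obtain ⟨e'⟩ := PicMul.cl_eq_iff.1 (cl_tensorPows_tensor ((Coh.Rpush f i).obj M) L n)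
    exact CurveCohLib.euler_congr (k := k) (e.symm ≪≫ e'.symm)
  show (Curv2.euler k Y _ : ℚ) = _
  rw [CurveCohLib.euler_congr (k := k) eY, euler_eq k f hf M' hM',
    finsum_eq_sum_of_support_subset _ (s := Finset.range (r₀ + 1)) fun i hi => ?_]
  · push_cast
    refine Finset.sum_congr rfl fun i _ => ?_
    rw [hterm i]
    rfl
  · simp only [Function.mem_support] at hi
    by_contra hni
    rw [Finset.coe_range, Set.mem_Iio, not_lt] at hni
    obtain ⟨j, rfl⟩ : ∃ j, i = j + 1 := ⟨i - 1, by omega⟩
    refine hi (mul_eq_zero_of_right _ ?_)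
    obtain ⟨e⟩ := KFlatLib.nonempty_rpush_tensor_finLocFree f M E hEf (j + 1)
    have hz : IsZero (CohB1.tensorMod E ((Coh.Rpush f (j + 1)).obj M)) :=
      Functor.map_isZero (DCoh.tensorBi.obj E) (hr₀ j (by omega)).1
    rw [← CurveCohLib.euler_congr (k := k) e]
    unfold Curv2.euler
    refine finsum_eq_zero_of_forall_eq_zero fun p => ?_
    haveI := Euler.subsingleton_HH_of_isZero hz p
    rw [Module.finrank_zero_of_subsingleton, Nat.cast_zero, mul_zero]

include hf in
/-- The alternating sums of twists by pullbacks. -/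
theorem alt_pullback {M : Y.Modules} (hM : Coh.IsCoh M) :
    ∃ N : ℕ, 0 < N ∧ ∀ (r : ℕ) (L : Fin r → X.Modules), (∀ i, PicF.IsInvertible (L i)) →
      alt (χs k (fun i => (Scheme.Modules.pullback f).obj (L i)) M) =
        ∑ i ∈ Finset.range N, (-1 : ℚ) ^ i * alt (χs k L ((Coh.Rpush f i).obj M)) := by
  obtain ⟨N, hN, h⟩ := χs_pullback k f hf hM
  refine ⟨N, hN, fun r L hL => ?_⟩
  rw [alt_congr (h r L hL), AVDegPoly.alt_sum]
  exact Finset.sum_congr rfl fun i _ => AVDegPoly.alt_const_mul _ _

omit hf [IsProper (Y ↘ Spec (CommRingCat.of k))] in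
/-- Higher direct images vanish where the base has an affine neighbourhood with affine preimage. -/
theorem notMem_support_Rpush [QuasiCompact f] [QuasiSeparated f] {M : Y.Modules} (hM : Coh.IsQCoh M)
    (i : ℕ) {y : X} {V : X.Opens} (hV : IsAffineOpen V) (hy : y ∈ V) (hfV : IsAffineOpen (f ⁻¹ᵁ V)) :
    y ∉ CohB1.support ((Coh.Rpush f (i + 1)).obj M) := by
  refine not_not.2 (show Subsingleton (((Coh.Rpush f (i + 1)).obj M).presheaf.stalk y) from ?_)
  refine subsingleton_of_forall_eq 0 fun t => ?_
  obtain ⟨W, hyW, s, rfl⟩ := ((Coh.Rpush f (i + 1)).obj M).presheaf.germ_exist t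
  obtain ⟨g, hg, hyg⟩ := hV.exists_basicOpen_le (V := W) ⟨y, hyW⟩ hy
  have hfg : IsAffineOpen (f ⁻¹ᵁ X.basicOpen g) := by
    rw [Scheme.preimage_basicOpen]
    exact hfV.basicOpen _
  haveI : IsAffine (f ⁻¹ᵁ X.basicOpen g).toScheme := hfg
  obtain ⟨l⟩ := QCoh.nonempty_sections_HH (f := f) (V := X.basicOpen g) hM (hV.basicOpen g) (i + 1)
  haveI := QCoh.subsingleton_HH_of_isAffine (QCoh.isQCoh_restrict (f ⁻¹ᵁ X.basicOpen g).ι hM) i
  haveI : Subsingleton Γ((Coh.Rpush f (i + 1)).obj M, X.basicOpen g) := l.toEquiv.subsingleton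
  rw [← ((Coh.Rpush f (i + 1)).obj M).presheaf.germ_res_apply (homOfLE hg) y hyg s]
  exact (congrArg _ (Subsingleton.elim _ (0 : Γ((Coh.Rpush f (i + 1)).obj M, X.basicOpen g)))).trans
    (map_zero _)

omit hf [IsProper (Y ↘ Spec (CommRingCat.of k))] in
/-- Direct images are supported on the image, when it is closed. -/
theorem support_Rpush_subset [QuasiCompact f] [QuasiSeparated f] (hcl : IsClosedMap f.base)
    {M : Y.Modules} (hM : Coh.IsQCoh M) (i : ℕ) :
    CohB1.support ((Coh.Rpush f i).obj M) ⊆ Set.range f.base := by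
  intro y hy
  by_contra hyr
  obtain ⟨_, ⟨V, hV, rfl⟩, hyV, hsub⟩ := X.isBasis_affineOpens.exists_subset_of_mem_open
    (show y ∈ (Set.range f.base)ᶜ from hyr) hcl.isClosed_range.isOpen_compl
  have hbot : ∀ W : X.Opens, W ≤ V → f ⁻¹ᵁ W = ⊥ := fun W hW => by
    ext z
    simp only [Opens.coe_bot, Set.mem_empty_iff_false, iff_false]
    exact fun hz => hsub (hW hz) ⟨z, rfl⟩
  cases i with
  | succ i => exact notMem_support_Rpush f hM i hV hyV (by rw [hbot V le_rfl]; exact isAffineOpen_bot Y) hy
  | zero =>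
    haveI := SpObjSS.enoughInjectives_of_hasInjectiveResolutions (C := Y.Modules)
    haveI := QCoh.preservesFiniteLimits_push f
    let e := (Scheme.Modules.pushforward f).rightDerivedZeroIsoSelf.app M
    refine hy (subsingleton_of_forall_eq 0 fun t => ?_)
    obtain ⟨W, hyW, s, rfl⟩ := ((Coh.Rpush f 0).obj M).presheaf.germ_exist t
    have hle : W ⊓ V ≤ W := inf_le_left
    haveI : Subsingleton Γ((Coh.Rpush f 0).obj M, W ⊓ V) := by
      haveI : Subsingleton Γ((Scheme.Modules.pushforward f).obj M, W ⊓ V) :=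
        subsingleton_of_forall_eq 0 fun a => AModX.eq_of_locally (M := M) _ _ fun p hp => by
          rw [hbot (W ⊓ V) inf_le_right] at hp
          exact hp.elim
      exact (ConcreteCategory.bijective_of_isIso (e.hom.app (W ⊓ V))).1.subsingleton
    rw [← ((Coh.Rpush f 0).obj M).presheaf.germ_res_apply (homOfLE hle) y ⟨hyW, hyV⟩ s]
    exact (congrArg _ (Subsingleton.elim _ (0 : Γ((Coh.Rpush f 0).obj M, W ⊓ V)))).trans (map_zero _)

end Groth.Agent.LerayEuler

namespace Groth.Agent.LerayEuler

variable {X Z : Scheme.{u}}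

/-- The length of the direct image of the structure sheaf at a point with one preimage. -/
theorem lenAt_push_structure_residueDegree [IsIntegral Z] (f : Z ⟶ X) (hf : IsClosedMap f.base)
    (hone : ∀ z, f.base z = f.base (genericPoint Z) → z = genericPoint Z) :
    lenAt ((Coh.push f).obj (Coh.structureModule Z)) (f.base (genericPoint Z)) =
      f.residueDegree (genericPoint Z) := by
  set x := genericPoint Z
  set M := Coh.structureModule Z
  have hL : IsField (Z.presheaf.stalk x) := CurveBundle.isField_stalk_generic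
  letI := (f.stalkMap x).hom.toAlgebra
  letI : Module (X.presheaf.stalk (f.base x)) (M.presheaf.stalk x) :=
    Module.compHom _ (f.stalkMap x).hom
  haveI : IsScalarTower (X.presheaf.stalk (f.base x)) (Z.presheaf.stalk x) (M.presheaf.stalk x) :=
    IsScalarTower.of_algebraMap_smul fun _ _ => rfl
  let e₀ : ((Coh.push f).obj M).presheaf.stalk (f.base x) ≃+ M.presheaf.stalk x := AddEquiv.ofBijective
    (TopCat.Presheaf.stalkPushforward Ab.{u} f.base M.presheaf x).hom
    (bijective_stalkPushforward f hf M fun z hz => hone z hz)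
  have he : ∀ (U : X.Opens) (hU : f.base x ∈ U) (v : Γ(M, f ⁻¹ᵁ U)),
      e₀ (((Coh.push f).obj M).presheaf.germ U (f.base x) hU v) = M.presheaf.germ (f ⁻¹ᵁ U) x hU v :=
    fun U hU v => congrArg (fun φ => φ v) (TopCat.Presheaf.stalkPushforward_germ Ab.{u} f.base M.presheaf U x hU)
  have e : ((Coh.push f).obj M).presheaf.stalk (f.base x) ≃ₗ[X.presheaf.stalk (f.base x)] M.presheaf.stalk x := by
    refine { e₀ with map_smul' := ?_ }
    intro a m
    obtain ⟨U, hU, b, rfl⟩ := X.presheaf.exists_germ_eq (x := f.base x) a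
    obtain ⟨V, hV, v, rfl⟩ := ((Coh.push f).obj M).presheaf.germ_exist m
    have hW : f.base x ∈ U ⊓ V := ⟨hU, hV⟩
    simp only [AddEquiv.toEquiv_eq_coe, Equiv.toFun_as_coe, EquivLike.coe_coe, RingHom.id_apply]
    rw [← X.presheaf.germ_res_apply (homOfLE inf_le_left : U ⊓ V ⟶ U) (f.base x) hW b,
      ← ((Coh.push f).obj M).presheaf.germ_res_apply (homOfLE inf_le_right : U ⊓ V ⟶ V) (f.base x) hW v]
    generalize X.presheaf.map (homOfLE inf_le_left : U ⊓ V ⟶ U).op b = b'
    generalize ((Coh.push f).obj M).presheaf.map (homOfLE inf_le_right : U ⊓ V ⟶ V).op v = v'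
    rw [← QCoh.germ_smul' ((Coh.push f).obj M) hW]
    refine ((he _ hW _).trans ?_).trans (congrArg
      (fun t => (X.presheaf.germ (U ⊓ V) (f.base x) hW b') • t) (he _ hW v').symm)
    refine (QCoh.germ_smul' M (show x ∈ f ⁻¹ᵁ (U ⊓ V) from hW) (f.app _ b') v').trans ?_
    exact congrArg (fun t => t • M.presheaf.germ (f ⁻¹ᵁ (U ⊓ V)) x hW v')
      (Scheme.Hom.germ_stalkMap_apply f (U ⊓ V) x hW b').symm
  let eO : Z.presheaf.stalk x ≃ₗ[Z.presheaf.stalk x] M.presheaf.stalk x :=
    LinearEquiv.ofBijective (LinearMap.toSpanSingleton (Z.presheaf.stalk x) _ (H23.UnitSec.one x))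
      ⟨fun a b h => sub_eq_zero.1 (H23.UnitSec.eq_zero_of_smul_one (a - b) (by rw [sub_smul]; exact sub_eq_zero.2 h)),
        fun m => Submodule.mem_span_singleton.1 ((H23.UnitSec.span_one x).ge (Submodule.mem_top : m ∈ ⊤))⟩
  unfold lenAt
  rw [(e ≪≫ₗ (eO.restrictScalars (X.presheaf.stalk (f.base x))).symm).length_eq]
  -- pass to the residue fields
  have hbij : Function.Bijective (Z.residue x) := by
    letI := hL.toField
    exact ⟨RingHom.injective _, IsLocalRing.residue_surjective⟩
  letI : Algebra (X.residueField (f.base x)) (Z.residueField x) := (f.residueFieldMap x).hom.toAlgebra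
  letI : Module (X.presheaf.stalk (f.base x)) (Z.residueField x) :=
    Module.compHom _ ((Z.residue x).hom.comp (f.stalkMap x).hom)
  letI : Algebra (X.presheaf.stalk (f.base x)) (X.residueField (f.base x)) :=
    (X.residue (f.base x)).hom.toAlgebra
  haveI : IsScalarTower (X.presheaf.stalk (f.base x)) (X.residueField (f.base x)) (Z.residueField x) :=
    IsScalarTower.of_algebraMap_smul fun a m => congrArg (fun t => t * m)
      (congrArg (fun φ => φ a) (Scheme.residue_residueFieldMap f x))
  let eR : Z.presheaf.stalk x ≃ₗ[X.presheaf.stalk (f.base x)] Z.residueField x :=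
    LinearEquiv.ofBijective
      { toFun := (Z.residue x).hom
        map_add' := map_add _
        map_smul' := fun a m => map_mul (Z.residue x).hom _ _ } hbij
  rw [eR.length_eq, Module.length_eq_of_surjective (R := X.residueField (f.base x))
    (show Function.Surjective (algebraMap (X.presheaf.stalk (f.base x)) (X.residueField (f.base x))) from
      IsLocalRing.residue_surjective)]
  rw [Module.length_eq_rank, Cardinal.toNat_toENat]
  rfl

end Groth.Agent.LerayEuler

namespace Groth.Agent.LerayEuler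

variable (k : Type u) [Field k] {X Z : Scheme.{u}} [X.Over (Spec (CommRingCat.of k))]
  [Z.Over (Spec (CommRingCat.of k))] [IsProper (X ↘ Spec (CommRingCat.of k))]
  [IsProper (Z ↘ Spec (CommRingCat.of k))]

/-- Intersection numbers of a pullback to an integral scheme: the degree times those of the image. -/
theorem alt_pullback_integral [IsIntegral Z] (f : Z ⟶ X)
    (hf : f ≫ (X ↘ Spec (CommRingCat.of k)) = Z ↘ Spec (CommRingCat.of k)) {d : ℕ}
    (hd : topologicalKrullDim Z = (d : WithBot ℕ∞)) (L : Fin d → X.Modules) (hL : ∀ i, PicF.IsInvertible (L i)) :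
    topologicalKrullDim ↥(CohB1.support (ClSub.quotMod f.ker)) ≤ (d : WithBot ℕ∞) ∧
    alt (χs k (fun i => (Scheme.Modules.pullback f).obj (L i)) (Coh.structureModule Z)) =
      (f.residueDegree (genericPoint Z) : ℚ) * alt (χs k L (ClSub.quotMod f.ker)) := by
  classical
  haveI : HasInjectiveResolutions Z.Modules := KFlatLib.hasInjectiveResolutions_modules
  haveI := CurveCohLib.isNoetherian_of_proper (k := k) (X := X)
  haveI := CurveCohLib.isNoetherian_of_proper (k := k) (X := Z)
  haveI := isProper_f k f hf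
  let p := X ↘ Spec (CommRingCat.of k)
  let pZ := Z ↘ Spec (CommRingCat.of k)
  set η := genericPoint Z
  set ξ0 := f η with hξ0
  have hcl : IsClosedMap f.base := f.isClosedMap
  have hrange : Set.range f.base = closure ({ξ0} : Set X) := by
    refine Set.Subset.antisymm ?_ (hcl.isClosed_range.closure_subset_iff.2 (Set.singleton_subset_iff.2 ⟨η, rfl⟩))
    rintro _ ⟨z, rfl⟩
    exact specializes_iff_mem_closure.1 ((genericPoint_specializes z).map f.continuous)
  have hdegη : VarDim.deg pZ η = d := by
    have h := VarDim.topologicalKrullDim_eq_deg_genericPoint pZ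
    rw [hd] at h
    exact_mod_cast h.symm
  have hdeg : ∀ z, VarDim.deg pZ z = VarDim.deg p (f z) + VarDim.fdeg f z :=
    fun z => VarDim.deg_eq_add f p hf z
  set e := VarDim.deg p ξ0 with he
  have hdimS : topologicalKrullDim ↥(closure ({ξ0} : Set X)) = (e : WithBot ℕ∞) :=
    VarDim.topologicalKrullDim_closure_singleton p ξ0
  have hη : d = e + VarDim.fdeg f η := hdegη.symm.trans (hdeg η)
  have hed : e ≤ d := by omega
  have hSd : topologicalKrullDim ↥(closure ({ξ0} : Set X)) ≤ (d : WithBot ℕ∞) := by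
    rw [hdimS]; exact_mod_cast hed
  have hOZ : Coh.IsCoh (Coh.structureModule Z) := QCoh.isCoh_structureModule'
  have hsupp : ∀ i, CohB1.support ((Coh.Rpush f i).obj (Coh.structureModule Z)) ⊆ closure ({ξ0} : Set X) :=
    fun i => hrange ▸ support_Rpush_subset f hcl hOZ.1 i
  obtain ⟨hI, hgen⟩ := H23.P1Graph.image_integral f
  have hrJ : CohB1.support (ClSub.quotMod f.ker) ⊆ closure ({ξ0} : Set X) := fun x hx => by
    by_contra h
    refine hx (ParShLib.subsingleton_stalk_quotMod f.ker ?_)
    intro hmem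
    rw [← SetLike.mem_coe, Scheme.Hom.support_ker] at hmem
    exact h (closure_minimal (hrange.le) isClosed_closure hmem)
  refine ⟨(H23.TopDim.dim_le_dim_of_subset hrJ).trans hSd, ?_⟩
  obtain ⟨N, hN, hpull⟩ := alt_pullback k f hf hOZ
  rw [hpull d L hL]
  rcases hed.lt_or_eq with hlt | heq
  · -- the image is too small
    have hz : ∀ {M : X.Modules}, Coh.IsCoh M → CohB1.support M ⊆ closure ({ξ0} : Set X) →
        alt (χs k L M) = 0 := fun {M} hM hMS => by
      rw [IntNum.alt_leading k hL hM ((H23.TopDim.dim_le_dim_of_subset hMS).trans hSd)]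
      refine finsum_eq_zero_of_forall_eq_zero fun ξ => ?_
      split_ifs with hξ
      · rw [lenAt_eq_zero (fun hmem => ?_), Nat.cast_zero, zero_mul]
        have h1 := H23.TopDim.dim_le_dim_of_subset
          (isClosed_closure.closure_subset_iff.2 (Set.singleton_subset_iff.2 (hMS hmem)))
        rw [hξ, hdimS] at h1
        have : d ≤ e := by exact_mod_cast h1
        omega
      · rfl
    have hres : f.residueDegree η = 0 := by
      by_contra hne
      have h0 : VarDim.fdeg f η = 0 := by
        letI := (f.residueFieldMap η).hom.toAlgebra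
        haveI : Module.Finite (X.residueField (f η)) (Z.residueField η) :=
          Module.finite_of_finrank_pos (Nat.pos_of_ne_zero hne)
        have : VarDim.rdeg f η = 0 := trdeg_eq_zero
        rw [VarDim.fdeg, this, map_zero]
      omega
    rw [hres, Nat.cast_zero, zero_mul]
    exact Finset.sum_eq_zero fun i _ => by
      rw [hz (isCoh_R k f hf _ hOZ i) (hsupp i), mul_zero]
  · -- generically finite
    have hdim0 : topologicalKrullDim ↥(closure ({ξ0} : Set X)) = (d : WithBot ℕ∞) := by rw [hdimS, heq]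
    have hone : ∀ z, f z = ξ0 → z = η := by
      intro z hz
      by_contra hne
      have hlt' := IntNum.dim_closure_lt (ξ := η) (η := z) (d := d)
        (by rw [(genericPoint_spec Z).def]; exact Set.subset_univ _) hne
        (by rw [VarDim.topologicalKrullDim_closure_singleton pZ, hdegη]; rfl)
      rw [VarDim.topologicalKrullDim_closure_singleton pZ] at hlt'
      have h1 : VarDim.deg pZ z < d := by exact_mod_cast hlt'
      have h2 := hdeg z
      rw [hz] at h2
      omega
    obtain ⟨V₀, hV₀, hfin⟩ := exists_isFinite_morphismRestrict_of_finite_preimage_singleton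
      (f := f) ξ0 ((Set.finite_singleton η).subset fun z hz => hone z hz)
    obtain ⟨_, ⟨V, hV, rfl⟩, hξV, hVV₀⟩ := X.isBasis_affineOpens.exists_subset_of_mem_open hV₀ V₀.2
    have hfV : IsAffineOpen (f ⁻¹ᵁ V) := by
      haveI := hfin
      have hV' : IsAffineOpen (V₀.ι ⁻¹ᵁ V) :=
        hV.preimage_of_isOpenImmersion _ (by rw [Scheme.Opens.opensRange_ι]; exact hVV₀)
      have h := (hV'.preimage (f ∣_ V₀)).image_of_isOpenImmersion (f ⁻¹ᵁ V₀).ι
      rw [image_morphismRestrict_preimage] at h
      rwa [Scheme.Hom.image_preimage_eq_opensRange_inf, Scheme.Opens.opensRange_ι, inf_eq_right.2 (show V ≤ V₀ from hVV₀)] at h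
    have hterm : ∀ {M : X.Modules}, Coh.IsCoh M → CohB1.support M ⊆ closure ({ξ0} : Set X) →
        alt (χs k L M) = (lenAt M ξ0 : ℚ) * alt (χs k L (ClSub.quotMod (ptIdeal ξ0))) := fun {M} hM hMS => by
      rw [IntNum.alt_leading k hL hM ((H23.TopDim.dim_le_dim_of_subset hMS).trans hSd),
        finsum_eq_single _ ξ0 fun ξ hξ => ?_, if_pos hdim0]
      split_ifs with hdim
      · rw [lenAt_eq_zero (fun hmem => ?_), Nat.cast_zero, zero_mul]
        exact (IntNum.dim_closure_lt (isClosed_closure.closure_subset_iff.2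
          (Set.singleton_subset_iff.2 (hMS hmem))) hξ hdim0.le).ne hdim
      · rfl
    have hJ : lenAt (ClSub.quotMod f.ker) ξ0 = 1 := by
      haveI := hI
      have h := IntNum.lenAt_push_structure f.ker.subschemeι
      rw [hgen] at h
      exact h
    have h0 : lenAt ((Coh.Rpush f 0).obj (Coh.structureModule Z)) ξ0 = f.residueDegree η := by
      haveI := SpObjSS.enoughInjectives_of_hasInjectiveResolutions (C := Z.Modules)
      haveI := QCoh.preservesFiniteLimits_push f
      let e₀ := (Scheme.Modules.pushforward f).rightDerivedZeroIsoSelf.app (Coh.structureModule Z)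
      rw [← lenAt_push_structure_residueDegree f hcl hone]
      exact congrArg ENat.toNat ((DerSch.stalkFunctor X ξ0).mapIso e₀).toLinearEquiv.length_eq
    rw [hterm (ParShLib.isCoh_quotMod f.ker) hrJ, hJ, Nat.cast_one, _root_.one_mul]
    obtain ⟨N', rfl⟩ : ∃ N', N = N' + 1 := ⟨N - 1, by omega⟩
    rw [Finset.sum_range_succ', pow_zero, _root_.one_mul, hterm (isCoh_R k f hf _ hOZ 0) (hsupp 0), h0,
      Finset.sum_eq_zero fun i _ => ?_, zero_add]
    rw [hterm (isCoh_R k f hf _ hOZ (i + 1)) (hsupp (i + 1)),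
      lenAt_eq_zero (notMem_support_Rpush f hOZ.1 i hV hξV hfV), Nat.cast_zero, zero_mul, mul_zero]

end Groth.Agent.LerayEuler
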